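import Groth.Agent.FEtStein.Homotopy
import Groth.Agent.FEtStein.AlgClosedEquiv
import Groth.Agent.FEtStein.FibreIso
import Groth.Agent.FBaseLib.Geom
import Groth.Agent.H8Top.Components

/-! Künneth formula for finite étale covers of a product with a proper factor over an algebraically
closed field. -/

set_option autoImplicit false
set_option linter.style.haveILetI false
set_option backward.isDefEq.respectTransparency.types false
set_option backward.isDefEq.respectTransparency false
universe u

open CategoryTheory CategoryTheory.Limits AlgebraicGeometry TopologicalSpace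

namespace Groth.Agent.SerreLang10

variable {k : Type u} [Field k] [IsAlgClosed k]

theorem connectedSpace_pullback {X Y : Scheme.{u}} (p : X ⟶ Spec (CommRingCat.of k))
    (q : Y ⟶ Spec (CommRingCat.of k)) [IsProper p] [ConnectedSpace X] [ConnectedSpace Y] :
    ConnectedSpace ↥(pullback p q) := by
  haveI := FEtStein.geometricallyConnected_of_isSepClosed p
  exact FEtQuot.connectedSpace_of_geomFibres (pullback.snd p q) fun Ω _ _ s =>
    GeometricallyConnected.geometrically_connectedSpace (f := pullback.snd p q) s _ _ (IsPullback.of_hasPullback _ _)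

/-- A connected finite étale cover of a product, with a section over a geometric fibre of the
projection with proper connected fibres, comes from the base. -/
theorem essImage_of_section {X Y : Scheme.{u}} (p : X ⟶ Spec (CommRingCat.of k)) [IsProper p] [ConnectedSpace X]
    (q : Y ⟶ Spec (CommRingCat.of k)) (C : FEt.Cat (pullback p q)) [ConnectedSpace C.left]
    (Ω : Type u) [Field Ω] [IsAlgClosed Ω] (s : Spec (CommRingCat.of Ω) ⟶ Y)
    (σ : pullback (pullback.snd p q) s ⟶ C.left) (hσ : σ ≫ C.hom = pullback.fst (pullback.snd p q) s) :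
    (FEt.restrict (pullback.snd p q)).essImage C := by
  let I : X.IdealSheafData := Scheme.IdealSheafData.vanishingIdeal ⊤
  let r := I.subschemeι
  haveI : AlgebraicGeometry.IsReduced I.subscheme := Props12.isReduced_subscheme_vanishingIdeal _
  haveI : Surjective r := by
    refine ⟨fun x => ?_⟩
    have hr : Set.range r = Set.univ := by
      rw [Scheme.IdealSheafData.range_subschemeι]
      exact Set.eq_univ_of_univ_subset (SetLike.coe_subset_coe.mpr
        (Scheme.IdealSheafData.le_support_iff_le_vanishingIdeal.mpr le_rfl : (⊤ : TopologicalSpace.Closeds X) ≤ _))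
    exact Set.range_eq_univ.1 hr x
  haveI : IsClosedImmersion r := inferInstanceAs (IsClosedImmersion I.subschemeι)
  let p₀ := r ≫ p
  haveI : IsProper p₀ := inferInstanceAs (IsProper (r ≫ p))
  haveI : ConnectedSpace ↥I.subscheme :=
    (r.isClosedEmbedding.isEmbedding.toHomeomorphOfSurjective r.surjective).symm.surjective.connectedSpace
      (r.isClosedEmbedding.isEmbedding.toHomeomorphOfSurjective r.surjective).symm.continuous
  haveI := FEtStein.geometricallyConnected_of_isSepClosed p₀
  haveI : GeometricallyReduced p₀ := by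
    haveI : AlgebraicGeometry.IsReduced (pullback p₀ (Spec.map (CommRingCat.ofHom (algebraMap k k)))) := by
      haveI : IsIso (Spec.map (CommRingCat.ofHom (algebraMap k k))) := by
        rw [Algebra.algebraMap_self, CommRingCat.ofHom_id, Spec.map_id]; infer_instance
      exact isReduced_of_isOpenImmersion (pullback.fst p₀ (Spec.map (CommRingCat.ofHom (algebraMap k k))))
    exact FBaseLib.geometricallyReduced_of_perfect (Ω := k) p₀
  haveI : LocallyOfFinitePresentation p₀ := LocallyOfFinitePresentation.iff_locallyOfFiniteType.2 inferInstance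
  let f := pullback.snd p q
  let f₀ := pullback.snd p₀ q
  haveI : IsProper f₀ := inferInstanceAs (IsProper (pullback.snd p₀ q))
  haveI : Flat f₀ := inferInstanceAs (Flat (pullback.snd p₀ q))
  haveI : LocallyOfFinitePresentation f₀ := inferInstanceAs (LocallyOfFinitePresentation (pullback.snd p₀ q))
  let R : pullback p₀ q ⟶ pullback p q :=
    pullback.lift (pullback.fst _ _ ≫ r) (pullback.snd _ _) (by rw [Category.assoc]; exact pullback.condition)
  have hR : IsPullback (pullback.fst p₀ q) R r (pullback.fst p q) := by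
    refine IsPullback.of_bot ?_ (pullback.lift_fst _ _ _).symm (IsPullback.of_hasPullback p q)
    rw [pullback.lift_snd]
    exact IsPullback.of_hasPullback p₀ q
  haveI : IsClosedImmersion R := MorphismProperty.of_isPullback hR ‹IsClosedImmersion r›
  haveI : Surjective R := MorphismProperty.of_isPullback hR ‹Surjective r›
  haveI := Groth.Agent.S0289.result R
  let C₀ := (FEt.restrict R).obj C
  haveI : ConnectedSpace C₀.left := by
    let l : C₀.left ⟶ C.left := pullback.fst C.hom R
    haveI : IsClosedImmersion l := inferInstanceAs (IsClosedImmersion (pullback.fst C.hom R))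
    haveI : Surjective l := inferInstanceAs (Surjective (pullback.fst C.hom R))
    exact (l.isClosedEmbedding.isEmbedding.toHomeomorphOfSurjective l.surjective).symm.surjective.connectedSpace
      (l.isClosedEmbedding.isEmbedding.toHomeomorphOfSurjective l.surjective).symm.continuous
  let R' : pullback f₀ s ⟶ pullback f s := pullback.lift (pullback.fst f₀ s ≫ R) (pullback.snd f₀ s)
    (by rw [Category.assoc, pullback.lift_snd]; exact pullback.condition)
  let σ₀ : pullback f₀ s ⟶ C₀.left := pullback.lift (R' ≫ σ) (pullback.fst f₀ s) (by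
    rw [Category.assoc]
    exact (congrArg (R' ≫ ·) hσ).trans (pullback.lift_fst _ _ _))
  obtain ⟨N, ⟨i⟩⟩ := FEtStein.essImage_restrict_of_section f₀ (fun Ω' _ _ s' =>
    ⟨GeometricallyConnected.geometrically_connectedSpace (f := pullback.snd p₀ q) s' _ _ (IsPullback.of_hasPullback _ _),
      GeometricallyReduced.geometrically_isReduced (f := pullback.snd p₀ q) s' _ _ (IsPullback.of_hasPullback _ _)⟩)
    C₀ Ω s σ₀ (pullback.lift_snd _ _ _)
  exact ⟨N, ⟨(FEt.restrict R).preimageIso (((FEtStein.restrictCompIso R f f₀ (pullback.lift_snd _ _ _)).app N).symm ≪≫ i)⟩⟩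

/-- Every connected finite étale cover of a product is dominated by a product of covers. -/
theorem exists_dominated {X Y : Scheme.{u}} (pX : X ⟶ Spec (CommRingCat.of k)) (pY : Y ⟶ Spec (CommRingCat.of k))
    [IsProper pX] [ConnectedSpace X] [IsLocallyNoetherian Y] [ConnectedSpace Y]
    (W : FEt.Cat (pullback pX pY)) [ConnectedSpace W.left] :
    ∃ (X' : FEt.Cat X) (Y' : FEt.Cat Y) (φ : pullback (X'.hom ≫ pX) (Y'.hom ≫ pY) ⟶ W.left),
      φ ≫ W.hom = pullback.map (X'.hom ≫ pX) (Y'.hom ≫ pY) pX pY X'.hom Y'.hom (𝟙 _)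
        (Category.comp_id _) (Category.comp_id _) ∧ Surjective φ := by
  haveI := connectedSpace_pullback pX pY
  haveI : IsFinite W.hom := W.prop.1
  haveI : Etale W.hom := W.prop.2
  let wh : W.left ⟶ pullback pX pY := W.hom
  haveI : IsFinite wh := W.prop.1
  haveI : Etale wh := W.prop.2
  haveI hwn : Nonempty W.left := ConnectedSpace.toNonempty
  haveI : Surjective wh := ⟨fun z => by
    have hc : IsClopen (Set.range wh) := ⟨wh.isClosedMap.isClosed_range, wh.isOpenMap.isOpen_range⟩
    rw [← Set.mem_range, hc.eq_univ (Set.range_nonempty _)]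
    trivial⟩
  obtain ⟨y⟩ := (inferInstance : Nonempty Y)
  obtain ⟨Ω, _, _, η, -⟩ := FEtQuot.exists_geometric_point y
  letI : Algebra k Ω := (Spec.preimage (η ≫ pY)).hom.toAlgebra
  let ξ := Spec.map (CommRingCat.ofHom (algebraMap k Ω))
  have hξ : ξ = η ≫ pY := Spec.map_preimage _
  haveI := FEtStein.restrict_isEquivalence_algClosed (K := Ω) pX
  let a := pullback.fst pX ξ
  let j : pullback pX ξ ⟶ pullback pX pY := pullback.lift a (pullback.snd pX ξ ≫ η) (by
    rw [Category.assoc, ← hξ]; exact pullback.condition)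
  let X₁ := (FEt.restrict a).objPreimage ((FEt.restrict j).obj W)
  let e := (FEt.restrict a).objObjPreimageIso ((FEt.restrict j).obj W)
  let e₁ : pullback X₁.hom a ⟶ pullback W.hom j := e.hom.left
  have he₁ : e₁ ≫ pullback.snd W.hom j = pullback.snd X₁.hom a := MorphismProperty.Over.w e.hom
  haveI : IsFinite X₁.hom := X₁.prop.1
  haveI : Etale X₁.hom := X₁.prop.2
  haveI : Nonempty X₁.left := by
    haveI : ConnectedSpace ↥(pullback pX ξ) := by
      haveI : Nonempty ↥(Spec (CommRingCat.of Ω)) := inferInstanceAs (Nonempty (PrimeSpectrum Ω))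
      haveI : ConnectedSpace ↥(Spec (CommRingCat.of Ω)) := inferInstanceAs (ConnectedSpace (PrimeSpectrum Ω))
      exact connectedSpace_pullback pX ξ
    obtain ⟨z⟩ := (inferInstance : Nonempty ↥(pullback pX ξ))
    obtain ⟨w, hw⟩ := wh.surjective (j z)
    obtain ⟨v, -, -⟩ := Scheme.Pullback.exists_preimage_pullback (f := W.hom) (g := j) w z hw
    exact ⟨pullback.fst X₁.hom a (e.inv.left v)⟩
  obtain ⟨x₁⟩ := (inferInstance : Nonempty X₁.left)
  haveI : IsLocallyNoetherian X₁.left := LocallyOfFiniteType.isLocallyNoetherian (X₁.hom ≫ pX)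
  have hloc : ∀ Z : Scheme.{u}, IsLocallyNoetherian Z → LocallyConnectedSpace Z := fun Z _ =>
    H8Top.IsLocNoetherian.locallyConnectedSpace fun z => by
      obtain ⟨V, hV, hzV, -⟩ := exists_isAffineOpen_mem_and_subset (x := z) (U := ⊤) trivial
      haveI : IsAffine V.toScheme := hV
      haveI : AlgebraicGeometry.IsNoetherian V.toScheme := { }
      exact ⟨V, V.2.mem_nhds hzV, (inferInstance : NoetherianSpace V.toScheme)⟩
  haveI := hloc X₁.left inferInstance
  let P : X₁.left.Opens := ⟨connectedComponent x₁, isOpen_connectedComponent⟩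
  haveI : ConnectedSpace P.toScheme := Subtype.connectedSpace isConnected_connectedComponent
  haveI : IsClosedImmersion P.ι := .of_isPreimmersion _ (by
    rw [Scheme.Opens.range_ι]; exact isClosed_connectedComponent)
  haveI : IsFinite (P.ι ≫ X₁.hom) := inferInstance
  haveI : Etale (P.ι ≫ X₁.hom) := inferInstance
  let X' : FEt.Cat X := MorphismProperty.Over.mk ⊤ (P.ι ≫ X₁.hom) ⟨‹_›, ‹_›⟩
  let q := (P.ι ≫ X₁.hom) ≫ pX
  haveI : IsProper q := inferInstanceAs (IsProper ((P.ι ≫ X₁.hom) ≫ pX))
  let m : pullback q pY ⟶ pullback pX pY := pullback.map q pY pX pY (P.ι ≫ X₁.hom) (𝟙 _) (𝟙 _)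
    (Category.comp_id _) (by simp)
  haveI : IsFinite m := MorphismProperty.pullbackMap (P := @IsFinite) (f := q) (g := pY) (f' := pX) (g' := pY)
    (i₁ := P.ι ≫ X₁.hom) (i₂ := 𝟙 Y) ‹_› (inferInstance : IsFinite (𝟙 Y)) rfl (Category.id_comp _).symm
  haveI : Etale m := MorphismProperty.pullbackMap (P := @Etale) (f := q) (g := pY) (f' := pX) (g' := pY)
    (i₁ := P.ι ≫ X₁.hom) (i₂ := 𝟙 Y) ‹_› (inferInstance : Etale (𝟙 Y)) rfl (Category.id_comp _).symm
  let f := pullback.snd q pY
  let q₁ : pullback f η ⟶ P.toScheme := pullback.fst f η ≫ pullback.fst q pY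
  let xi : pullback f η ⟶ pullback pX ξ := pullback.lift (q₁ ≫ P.ι ≫ X₁.hom) (pullback.snd f η) (by
    rw [hξ, ← pullback.condition_assoc]
    simp only [q₁, f, Category.assoc]
    rw [← pullback.condition]
    simp [q])
  let lx : pullback f η ⟶ pullback X₁.hom a := pullback.lift (q₁ ≫ P.ι) xi (by rw [pullback.lift_fst, Category.assoc])
  have hlx : lx ≫ pullback.snd X₁.hom a = xi := pullback.lift_snd _ _ _
  let σ : pullback f η ⟶ pullback W.hom m :=
    pullback.lift (lx ≫ e₁ ≫ pullback.fst W.hom j)
      (pullback.fst f η) (by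
        have h1 : (lx ≫ e₁ ≫ pullback.fst W.hom j) ≫ W.hom = xi ≫ j := by
          calc (lx ≫ e₁ ≫ pullback.fst W.hom j) ≫ W.hom
              = lx ≫ (e₁ ≫ pullback.snd W.hom j) ≫ j := by
                simp only [Category.assoc, pullback.condition]
            _ = xi ≫ j := by rw [he₁, reassoc_of% hlx]
        refine h1.trans ?_
        simp only [xi, j, m]
        apply pullback.hom_ext
        · simp [q₁, a]
        · simp [f, pullback.condition])
  haveI : ConnectedSpace ↥(pullback f η) := by
    haveI := FEtStein.geometricallyConnected_of_isSepClosed q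
    exact GeometricallyConnected.geometrically_connectedSpace (f := pullback.snd q pY) η _ _ (IsPullback.of_hasPullback _ _)
  haveI : IsFinite (pullback.snd W.hom m) := inferInstance
  haveI : Etale (pullback.snd W.hom m) := inferInstance
  haveI : LocallyOfFiniteType (pullback.snd W.hom m ≫ f) := inferInstance
  haveI := hloc (pullback W.hom m) (LocallyOfFiniteType.isLocallyNoetherian (pullback.snd W.hom m ≫ f))
  obtain ⟨z₀⟩ := (inferInstance : Nonempty ↥(pullback f η))
  let C : (pullback W.hom m).Opens := ⟨connectedComponent (σ z₀), isOpen_connectedComponent⟩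
  haveI : ConnectedSpace C.toScheme := Subtype.connectedSpace isConnected_connectedComponent
  haveI : IsClosedImmersion C.ι := .of_isPreimmersion _ (by
    rw [Scheme.Opens.range_ι]; exact isClosed_connectedComponent)
  let c := C.ι ≫ pullback.snd W.hom m
  haveI : IsFinite c := inferInstanceAs (IsFinite (C.ι ≫ pullback.snd W.hom m))
  haveI : Etale c := inferInstanceAs (Etale (C.ι ≫ pullback.snd W.hom m))
  let Cc : FEt.Cat (pullback q pY) := MorphismProperty.Over.mk ⊤ c ⟨‹_›, ‹_›⟩
  haveI : ConnectedSpace Cc.left := ‹ConnectedSpace C.toScheme›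
  have hin : Set.range σ ⊆ Set.range C.ι := by
    rw [Scheme.Opens.range_ι]
    exact (isConnected_range σ.continuous).subset_connectedComponent ⟨z₀, rfl⟩
  obtain ⟨N, ⟨i⟩⟩ := essImage_of_section q pY Cc Ω η (IsOpenImmersion.lift C.ι σ hin) (by
    show _ ≫ C.ι ≫ pullback.snd W.hom m = _
    rw [IsOpenImmersion.lift_fac_assoc, pullback.lift_snd])
  let il : pullback N.hom f ⟶ C.toScheme := i.hom.left
  haveI : IsIso il := inferInstanceAs (IsIso
    ((MorphismProperty.Over.forget FEt.prop ⊤ _ ⋙ Over.forget _).map i.hom))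
  have hil : il ≫ C.ι ≫ pullback.snd W.hom m = pullback.snd N.hom f := MorphismProperty.Over.w i.hom
  haveI : Nonempty (pullback N.hom f : Scheme.{u}) := ⟨(inv il) (⟨σ z₀, mem_connectedComponent⟩ : C.toScheme)⟩
  let t : pullback q (N.hom ≫ pY) ⟶ pullback N.hom f := pullback.lift (pullback.snd _ _)
    (pullback.lift (pullback.fst _ _) (pullback.snd _ _ ≫ N.hom) (by rw [Category.assoc]; exact pullback.condition))
    (by simp [f])
  let t' : pullback N.hom f ⟶ pullback q (N.hom ≫ pY) := pullback.lift (pullback.snd N.hom f ≫ pullback.fst q pY)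
    (pullback.fst N.hom f) (by
      rw [pullback.condition_assoc, Category.assoc, pullback.condition])
  haveI : IsIso t := by
    refine ⟨t', ?_, ?_⟩
    · apply pullback.hom_ext <;> simp [t, t']
    · apply pullback.hom_ext
      · simp [t, t']
      · apply pullback.hom_ext
        · simp [t, t']
        · simp [t, t', f, pullback.condition]
  haveI : ConnectedSpace ↥((𝟭 Scheme.{u}).obj W.left) := ‹ConnectedSpace W.left›
  let ψ := il ≫ C.ι ≫ pullback.fst W.hom m
  haveI : Surjective ψ := by
    haveI : IsFinite ψ := inferInstanceAs (IsFinite (il ≫ C.ι ≫ pullback.fst W.hom m))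
    haveI : Etale ψ := inferInstanceAs (Etale (il ≫ C.ι ≫ pullback.fst W.hom m))
    refine ⟨fun w => ?_⟩
    have hc : IsClopen (Set.range ψ) := ⟨ψ.isClosedMap.isClosed_range, ψ.isOpenMap.isOpen_range⟩
    rw [← Set.mem_range, hc.eq_univ (Set.range_nonempty _)]
    trivial
  refine ⟨X', N, t ≫ ψ, ?_, inferInstanceAs (Surjective (t ≫ ψ))⟩
  simp only [ψ, Category.assoc, pullback.condition, reassoc_of% hil]
  apply pullback.hom_ext
  · simp [t, m]; rfl
  · simp [t, m]; rfl

end Groth.Agent.SerreLang10
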