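import Groth.Agent.FEtStein.Homotopy
import Groth.Agent.FEtLib.EqLocus
import Mathlib.AlgebraicGeometry.Morphisms.FlatRank

/-! A finite étale cover of a self-product of a proper flat scheme with connected reduced geometric
fibres, trivial on both axes, is trivial. -/

set_option autoImplicit false
set_option linter.style.haveILetI false
set_option backward.isDefEq.respectTransparency.types false
set_option backward.isDefEq.respectTransparency false
universe u

open CategoryTheory CategoryTheory.Limits AlgebraicGeometry MonoidalCategory CartesianMonoidalCategory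

namespace Groth.Agent.SerreLang10

variable {S : Scheme.{u}} (X : Over S) (e : 𝟙_ (Over S) ⟶ X)

/-- A clopen set of the base containing the section is everything, fibres being connected. -/
theorem eq_univ_of_section [GeometricallyConnected X.hom] {D : Set X.left} (hD : IsClopen D)
    (h : Set.range e.left ⊆ D) : D = Set.univ := by
  refine Set.eq_univ_of_forall fun x => ?_
  exact (X.hom.isConnected_preimage_singleton (X.hom x)).isPreconnected.subset_isClopen hD
    ⟨e.left (X.hom x), by
      show X.hom (e.left (X.hom x)) = X.hom x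
      rw [← Scheme.Hom.comp_apply e.left X.hom, Over.w e]; rfl, h ⟨_, rfl⟩⟩ rfl

/-- Morphisms into something separated and unramified agreeing along the section are equal. -/
theorem eq_of_section [GeometricallyConnected X.hom] {Z T : Scheme.{u}} (q : Z ⟶ T) [FormallyUnramified q]
    [LocallyOfFiniteType q] [IsSeparated q] (a b : X.left ⟶ Z) (w : a ≫ q = b ≫ q)
    (h : e.left ≫ a = e.left ≫ b) : a = b :=
  FEtLib.eq_of_eqLocus_eq_top q a b w (TopologicalSpace.Opens.ext
    (eq_univ_of_section X e ⟨FEtLib.isClosed_eqLocus q a b w, (FEtLib.eqLocus q a b w).isOpen⟩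
      (FEtLib.range_subset q a b w e.left h)))

variable [IsProper X.hom] [Flat X.hom] [LocallyOfFinitePresentation X.hom]
  [GeometricallyConnected X.hom] [GeometricallyReduced X.hom]

local notation "A₁" => Over.Hom.left (lift (𝟙 X) (toUnit X ≫ e))
local notation "A₂" => Over.Hom.left (lift (toUnit X ≫ e) (𝟙 X))

/-- Morphisms out of the self-product agreeing on the first axis are equal. -/
theorem eq_of_axis {Z T : Scheme.{u}} (q : Z ⟶ T) [FormallyUnramified q] [LocallyOfFiniteType q] [IsSeparated q]
    (a b : (X ⊗ X).left ⟶ Z) (w : a ≫ q = b ≫ q) (h : A₁ ≫ a = A₁ ≫ b) : a = b := by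
  refine FEtLib.eq_of_eqLocus_eq_top q a b w (TopologicalSpace.Opens.ext (Set.eq_univ_of_forall fun z => ?_))
  let f : (X ⊗ X).left ⟶ X.left := pullback.fst X.hom X.hom
  haveI : GeometricallyConnected f := inferInstanceAs (GeometricallyConnected (pullback.fst X.hom X.hom))
  refine (f.isConnected_preimage_singleton (f z)).isPreconnected.subset_isClopen
    ⟨FEtLib.isClosed_eqLocus q a b w, (FEtLib.eqLocus q a b w).isOpen⟩ ⟨A₁ (f z), ?_, ?_⟩ rfl
  · show f (A₁ (f z)) = f z
    rw [← Scheme.Hom.comp_apply A₁ f, show A₁ ≫ f = 𝟙 X.left from congrArg CommaMorphism.left (lift_fst (𝟙 X) (toUnit X ≫ e))]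
    rfl
  · exact FEtLib.mem_of_comp_eq q a b w _ h _

theorem exists_section_prod_rel {P : Scheme.{u}} (π : P ⟶ (X ⊗ X).left) [IsFinite π] [Etale π]
    (s₁ s₂ : X.left ⟶ P) (h₁ : s₁ ≫ π = A₁) (h₂ : s₂ ≫ π = A₂) (h : e.left ≫ s₁ = e.left ≫ s₂) :
    ∃ s : (X ⊗ X).left ⟶ P, s ≫ π = 𝟙 _ ∧ A₁ ≫ s = s₁ ∧ A₂ ≫ s = s₂ := by
  let f : (X ⊗ X).left ⟶ X.left := pullback.fst X.hom X.hom
  haveI : IsProper f := inferInstanceAs (IsProper (pullback.fst X.hom X.hom))
  haveI : Flat f := inferInstanceAs (Flat (pullback.fst X.hom X.hom))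
  haveI : LocallyOfFinitePresentation f := inferInstanceAs (LocallyOfFinitePresentation (pullback.fst X.hom X.hom))
  haveI : GeometricallyConnected f := inferInstanceAs (GeometricallyConnected (pullback.fst X.hom X.hom))
  haveI : GeometricallyReduced f := inferInstanceAs (GeometricallyReduced (pullback.fst X.hom X.hom))
  have hf₁ : A₁ ≫ f = 𝟙 X.left := congrArg CommaMorphism.left (lift_fst (𝟙 X) (toUnit X ≫ e))
  have hf₂ : A₂ ≫ f = X.hom ≫ e.left := congrArg CommaMorphism.left (lift_fst (toUnit X ≫ e) (𝟙 X))
  have hs₂ : A₂ ≫ pullback.snd X.hom X.hom = 𝟙 X.left := congrArg CommaMorphism.left (lift_snd (toUnit X ≫ e) (𝟙 X))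
  let g := π ≫ f
  haveI : IsProper g := inferInstanceAs (IsProper (π ≫ f))
  haveI : Flat g := inferInstanceAs (Flat (π ≫ f))
  haveI : LocallyOfFinitePresentation g := inferInstanceAs (LocallyOfFinitePresentation (π ≫ f))
  have hfred : ∀ (Ω : Type u) [Field Ω] [IsAlgClosed Ω] (σ : Spec (CommRingCat.of Ω) ⟶ X.left),
      AlgebraicGeometry.IsReduced (pullback f σ) := fun Ω _ _ σ =>
    GeometricallyReduced.geometrically_isReduced (f := f) σ _ _ (IsPullback.of_hasPullback f σ)
  have hred : ∀ (Ω : Type u) [Field Ω] [IsAlgClosed Ω] (σ : Spec (CommRingCat.of Ω) ⟶ X.left),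
      AlgebraicGeometry.IsReduced (pullback g σ) := fun Ω _ _ σ => by
    haveI := hfred Ω σ
    exact FEtStein.isReduced_pullback_comp π f σ
  obtain ⟨hn1, hn2⟩ := FEtStein.isFinite_etale_fromNormalization g hred
  haveI := hn1
  haveI := hn2
  let n := g.fromNormalization
  let t := g.toNormalization
  have htn : t ≫ n = g := g.toNormalization_fromNormalization
  haveI : GeometricallyConnected t := FEtStein.geometricallyConnected_toNormalization g hred
  let t₁ : X.left ⟶ g.normalization := s₁ ≫ t
  have ht₁ : t₁ ≫ n = 𝟙 _ := by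
    rw [Category.assoc, htn]
    show s₁ ≫ π ≫ f = 𝟙 _
    rw [reassoc_of% h₁, hf₁]
  haveI : IsClosedImmersion t₁ := by
    haveI : IsClosedImmersion (t₁ ≫ n) := by rw [ht₁]; infer_instance
    exact IsClosedImmersion.of_comp t₁ n
  haveI : Etale t₁ := by
    haveI : Etale (t₁ ≫ n) := by rw [ht₁]; infer_instance
    exact Etale.of_comp t₁ n
  let P₀ := pullback t t₁
  let i : P₀ ⟶ P := pullback.fst t t₁
  let g₀ : P₀ ⟶ X.left := pullback.snd t t₁
  haveI : GeometricallyConnected g₀ := inferInstanceAs (GeometricallyConnected (pullback.snd t t₁))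
  let c : P₀ ⟶ (X ⊗ X).left := i ≫ π
  haveI : IsFinite i := inferInstanceAs (IsFinite (pullback.fst t t₁))
  haveI : Etale i := inferInstanceAs (Etale (pullback.fst t t₁))
  haveI : IsFinite c := inferInstanceAs (IsFinite (i ≫ π))
  haveI : Etale c := inferInstanceAs (Etale (i ≫ π))
  haveI : LocallyOfFinitePresentation c := inferInstance
  have hcf : c ≫ f = g₀ := by
    show (i ≫ π) ≫ f = g₀
    rw [Category.assoc, ← show t ≫ n = π ≫ f from htn, pullback.condition_assoc, ht₁, Category.comp_id]
  let c₁ : X.left ⟶ P₀ := pullback.lift s₁ (𝟙 _) (by rw [Category.id_comp])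
  let c₂ : X.left ⟶ P₀ := pullback.lift s₂ (X.hom ≫ e.left) (by
    refine eq_of_section X e n _ _ ?_ ?_
    · rw [Category.assoc, htn]
      show s₂ ≫ π ≫ f = _
      rw [reassoc_of% h₂, hf₂]
      simp only [Category.assoc, ht₁, Category.comp_id]
    · rw [← Category.assoc, ← h]
      simp only [t₁, Category.assoc]
      rw [reassoc_of% Over.w e]
      exact (congrArg (fun m => e.left ≫ s₁ ≫ m) rfl).trans (Category.id_comp _).symm)
  have hc₁ : c₁ ≫ c = A₁ := by
    show pullback.lift s₁ (𝟙 _) _ ≫ pullback.fst t t₁ ≫ π = _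
    rw [pullback.lift_fst_assoc, h₁]
  have hc₂ : c₂ ≫ c = A₂ := by
    show pullback.lift s₂ (X.hom ≫ e.left) _ ≫ pullback.fst t t₁ ≫ π = _
    rw [pullback.lift_fst_assoc, h₂]
  have hloc : IsLocallyConstant (Scheme.Hom.finrank c) := Scheme.Hom.isLocallyConstant_finrank c
  -- rank one over the fibres meeting the section
  have hbase : ∀ s : (𝟙_ (Over S)).left, Scheme.Hom.finrank c (A₁ (e.left s)) = 1 := by
    intro s
    obtain ⟨Ω, _, _, ξ, hξ⟩ := FEtQuot.exists_geometric_point (e.left s)
    let W := pullback f ξ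
    let j : W ⟶ (X ⊗ X).left := pullback.fst f ξ
    let cW : pullback c j ⟶ W := pullback.snd c j
    haveI : ConnectedSpace ↥(pullback c j) := GeometricallyConnected.geometrically_connectedSpace (f := g₀) ξ
      (pullback.fst c j) (cW ≫ pullback.snd f ξ) (by
        rw [← hcf]
        exact (IsPullback.of_hasPullback c j).paste_vert (IsPullback.of_hasPullback f ξ))
    have hje : j ≫ pullback.snd X.hom X.hom ≫ A₂ = j := by
      have hw : j ≫ pullback.snd X.hom X.hom ≫ X.hom = pullback.snd f ξ ≫ ξ ≫ X.hom := by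
        rw [← pullback.condition, pullback.condition_assoc]
      obtain ⟨s', hs'⟩ : ∃ s', ξ = s' ≫ e.left := by
        haveI : IsClosedImmersion e.left := by
          haveI : IsClosedImmersion (e.left ≫ X.hom) := by rw [Over.w e]; exact inferInstanceAs (IsClosedImmersion (𝟙 S))
          exact IsClosedImmersion.of_comp e.left X.hom
        haveI : IsClosedImmersion (pullback.snd e.left ξ) := MorphismProperty.pullback_snd _ _ ‹_›
        haveI : Surjective (pullback.snd e.left ξ) := ⟨fun z => by
          obtain ⟨w, -, hw⟩ := Scheme.Pullback.exists_preimage_pullback (f := e.left) (g := ξ) s z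
            (by rw [← hξ]; exact congrArg ξ (Subsingleton.elim (α := PrimeSpectrum Ω) _ _))
          exact ⟨w, hw⟩⟩
        haveI : IsIso (pullback.snd e.left ξ) := isIso_of_isClosedImmersion_of_surjective _
        exact ⟨inv (pullback.snd e.left ξ) ≫ pullback.fst e.left ξ, by
          rw [Category.assoc, pullback.condition, IsIso.inv_hom_id_assoc]⟩
      have hξe : ξ ≫ X.hom ≫ e.left = ξ := by
        rw [hs', Category.assoc, reassoc_of% Over.w e]
        exact congrArg (s' ≫ ·) (Category.id_comp e.left)
      apply pullback.hom_ext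
      · simp only [Category.assoc]
        rw [show A₂ ≫ pullback.fst X.hom X.hom = X.hom ≫ e.left from hf₂, reassoc_of% hw, hξe]
        exact pullback.condition.symm
      · simp only [Category.assoc, hs₂, Category.comp_id]
    let σ : W ⟶ pullback c j := pullback.lift (j ≫ pullback.snd X.hom X.hom ≫ c₂) (𝟙 _)
      (by rw [Category.assoc, Category.assoc, hc₂, hje, Category.id_comp])
    have hσ : σ ≫ cW = 𝟙 _ := pullback.lift_snd _ _ _
    haveI : IsFinite cW := inferInstanceAs (IsFinite (pullback.snd c j))
    haveI : Etale cW := inferInstanceAs (Etale (pullback.snd c j))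
    haveI : IsIso σ := by
      haveI : IsClosedImmersion (σ ≫ cW) := by rw [hσ]; infer_instance
      haveI : IsClosedImmersion σ := IsClosedImmersion.of_comp σ cW
      haveI : Etale (σ ≫ cW) := by rw [hσ]; infer_instance
      haveI : Etale σ := Etale.of_comp σ cW
      haveI : IsOpenImmersion σ := IsOpenImmersion.of_flat_of_mono σ
      haveI : Nonempty W := by
        haveI : ConnectedSpace W :=
          GeometricallyConnected.geometrically_connectedSpace (f := f) ξ _ _ (IsPullback.of_hasPullback f ξ)
        infer_instance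
      haveI : Epi σ.base := by
        rw [TopCat.epi_iff_surjective]
        intro z
        have hc : IsClopen (Set.range σ) := ⟨σ.isClosedEmbedding.isClosed_range, σ.isOpenEmbedding.isOpen_range⟩
        rw [← Set.mem_range, hc.eq_univ (Set.range_nonempty _)]
        trivial
      exact IsOpenImmersion.isIso σ
    haveI : IsIso cW := IsIso.of_isIso_fac_left hσ
    obtain ⟨w, hw, -⟩ := Scheme.Pullback.exists_preimage_pullback (f := f) (g := ξ) (A₁ (e.left s))
      (IsLocalRing.closedPoint Ω) (by rw [← Scheme.Hom.comp_apply, hf₁, hξ]; rfl)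
    rw [← hw, ← Scheme.Hom.finrank_pullback_snd c j w]
    exact congrFun (Scheme.Hom.finrank_eq_one_of_isIso cW) w
  have hone : ∀ z, Scheme.Hom.finrank c z = 1 := by
    intro z
    have hA : ∀ x : X.left, Scheme.Hom.finrank c (A₁ x) = 1 := by
      have := eq_univ_of_section X e
        ((hloc.comp_continuous (Scheme.Hom.continuous A₁)).isClopen_fiber 1)
        (by rintro _ ⟨s, rfl⟩; exact hbase s)
      exact fun x => Set.eq_univ_iff_forall.1 this x
    rw [← hA (f z)]
    refine hloc.apply_eq_of_isPreconnected (f.isConnected_preimage_singleton (f z)).isPreconnected rfl ?_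
    show f (A₁ (f z)) = f z
    rw [← Scheme.Hom.comp_apply A₁ f, hf₁]
    rfl
  haveI : IsIso c := (Scheme.Hom.isIso_iff_finrank_eq (f := c)).2 (funext hone)
  refine ⟨inv c ≫ i, ?_, ?_, ?_⟩
  · rw [Category.assoc]; exact IsIso.inv_hom_id c
  · rw [← Category.assoc, (IsIso.comp_inv_eq c).2 hc₁.symm]
    exact pullback.lift_fst _ _ _
  · rw [← Category.assoc, (IsIso.comp_inv_eq c).2 hc₂.symm]
    exact pullback.lift_fst _ _ _

end Groth.Agent.SerreLang10
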